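import Groth.Agent.Lib.GaExt23.DualH1
import Groth.Agent.Lib.BddFin29.Gm
import Groth.Agent.Lib.GmLaw19.Basic
import Groth.Agent.Lib.PicAff14.Basic
import Groth.Agent.Lib.Twist.Pullback
import Mathlib.RingTheory.PicardGroup

/-!
# First cohomology of the dual of the multiplicative group over a field, and of direct images
-/

set_option autoImplicit false
set_option linter.style.haveILetI false
set_option maxHeartbeats 300000
set_option backward.isDefEq.respectTransparency false
set_option backward.isDefEq.respectTransparency.types false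
universe u

open CategoryTheory CategoryTheory.Limits MonoidalCategory CartesianMonoidalCategory MonObj AlgebraicGeometry Opposite Abelian
open Groth.Agent.GaExt23

noncomputable section

namespace Groth.Agent.DualGm23

/-- A direct image has no `H¹` when the sheaf has none. -/
theorem subsingleton_H1_push {S S' : Scheme.{u}} (f : S' ⟶ S) (F' : BigSite.Ab Scheme.fppfPrecoverage S')
    (h1 : Subsingleton (BigSite.H Scheme.fppfPrecoverage S' F' 1)) :
    Subsingleton (BigSite.H Scheme.fppfPrecoverage S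
      ((BigSite.pushBig Scheme.fppfPrecoverage f AddCommGrpCat.{u + 1}).obj F') 1) := by
  let P := BigSite.pushBig Scheme.fppfPrecoverage f AddCommGrpCat.{u + 1}
  let adj := BigSite.bigAdj Scheme.fppfPrecoverage f AddCommGrpCat.{u + 1}
  haveI : PreservesLimitsOfSize.{0, 0} P := adj.rightAdjoint_preservesLimits
  haveI : P.Additive := inferInstance
  let i := Injective.ι F'
  let C : ShortComplex (BigSite.Ab Scheme.fppfPrecoverage S') := ShortComplex.mk i (cokernel.π i) (cokernel.condition i)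
  have hC : C.ShortExact := { exact := ShortComplex.exact_cokernel i }
  let E : ShortComplex (BigSite.Ab Scheme.fppfPrecoverage S) :=
    ShortComplex.mk (P.map i) (cokernel.π (P.map i)) (cokernel.condition _)
  haveI : Mono (P.map i) := P.map_mono i
  have hE : E.ShortExact := { exact := ShortComplex.exact_cokernel _ }
  let m : cokernel (P.map i) ⟶ P.obj (cokernel i) := cokernel.desc (P.map i) (P.map (cokernel.π i))
    (by rw [← P.map_comp, cokernel.condition, P.map_zero])
  have hker : (C.map P).Exact := hC.exact.map_of_mono_of_preservesKernel P hC.mono_f inferInstance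
  haveI : Mono m := hker.mono_cokernelDesc
  haveI : Injective (P.obj (Injective.under F')) := Injective.injective_of_adjoint adj _
  refine GaExt23.subsingleton_H1_kernel hE (T := Over.mk (𝟙 S)) Over.mkIdTerminal ?_ ?_
  · exact subsingleton_of_forall_eq 0 fun z => Ext.eq_zero_of_injective z
  · intro s
    have hsurj : Function.Surjective (C.g.hom.app (op ((Over.pullback f).obj (Over.mk (𝟙 S))))) := fun y => by
      let j : (Over.pullback f).obj (Over.mk (𝟙 S)) ≅ Over.mk (𝟙 S') :=
        Over.isoMk (asIso (pullback.snd (𝟙 S) f)) (by simp)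
      obtain ⟨x, hx⟩ := GaExt23.surjective_terminal hC (Over.mkIdTerminal : IsTerminal (Over.mk (𝟙 S'))) h1 (C.X₃.obj.map j.inv.op y)
      refine ⟨C.X₂.obj.map j.hom.op x, ?_⟩
      rw [NatTrans.naturality_apply C.g.hom, hx, ← ConcreteCategory.comp_apply, ← Functor.map_comp, ← op_comp,
        j.hom_inv_id, op_id, CategoryTheory.Functor.map_id]
      rfl
    obtain ⟨x, hx⟩ := hsurj (m.hom.app _ s)
    haveI : Mono m.hom := (sheafToPresheaf _ _).map_mono m
    have hm : Function.Injective (m.hom.app (op (Over.mk (𝟙 S)))) :=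
      (AddCommGrpCat.mono_iff_injective _).1 inferInstance
    refine ⟨x, hm ?_⟩
    refine Eq.trans ?_ hx
    show (cokernel.π (P.map i) ≫ m).hom.app (op (Over.mk (𝟙 S))) x = _
    rw [cokernel.π_desc]
    rfl

variable {X : Scheme.{u}} {G : Over X} [GrpObj G] [IsCommMonObj G]

theorem eq_inv_of_hom_mul {V H : Over X} [GrpObj H] {p q r : V ⟶ H} (h : p * q * r = r) : p = q⁻¹ :=
  eq_inv_of_mul_eq_one_left (mul_eq_right.1 h)

theorem eq_inv_of_hom_mul' {V H : Over X} [GrpObj H] [IsCommMonObj H] {p q r : V ⟶ H} (h : p * q * r = q) :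
    p = r⁻¹ := eq_inv_of_hom_mul (r := q) ((mul_right_comm p r q).trans h)

/-- The defect of additivity on a pair with a trivial entry. -/
theorem dlt_one {V : Over X} (f : (Fun G).obj.obj (op V)) (x : V ⟶ G ⊗ G)
    (hx : x ≫ fst G G = 1 ∨ x ≫ snd G G = 1) :
    wl (𝟙 V) x ≫ toPt (G ⊗ G) ((dlt G).hom.app (op V) f) = (wl (𝟙 V) (1 : V ⟶ G) ≫ toPt G f)⁻¹ := by
  have hh : ∀ h : G ⊗ G ⟶ G, wl (𝟙 V) x ≫ toPt (G ⊗ G) ((funMap h).hom.app (op V) f) =
      wl (𝟙 V) (x ≫ h) ≫ toPt G f := fun h => by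
    rw [toPt_funMap, ← Category.assoc, comp_wl, wl_π, ← Category.assoc, wl_τ]
  have e : (dlt G).hom.app (op V) f + (funMap (fst G G)).hom.app (op V) f + (funMap (snd G G)).hom.app (op V) f =
      (funMap (fst G G * snd G G)).hom.app (op V) f := by rw [dlt_app]; abel
  have h := congrArg (fun t => wl (𝟙 V) x ≫ toPt (G ⊗ G) t) e
  rw [toPt_add, toPt_add, MonObj.comp_mul (wl (𝟙 V) x), MonObj.comp_mul (wl (𝟙 V) x), hh, hh, hh,
    MonObj.comp_mul x] at h
  rcases hx with hx | hx
  · rw [hx, _root_.one_mul (x ≫ snd G G)] at h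
    exact eq_inv_of_hom_mul (H := Red.Gm X) h
  · rw [hx, _root_.mul_one (x ≫ fst G G)] at h
    exact eq_inv_of_hom_mul' (H := Red.Gm X) h

/-- `H¹(X, Ĝ) = 0` when `G` has trivial Picard group and every invertible function on `G × G` that is
constant on both axes is constant. -/
theorem subsingleton_H_dualSh
    (hPic : ∀ L : G.left.Modules, PicF.IsInvertible L → Nonempty (L ≅ Coh.structureModule G.left))
    (hunit : ∀ c : G ⊗ G ⟶ Red.Gm X, (∀ (T : Over X) (x : T ⟶ G ⊗ G),
      (x ≫ fst G G = 1 ∨ x ≫ snd G G = 1) → x ≫ c = lift (1 : T ⟶ G) 1 ≫ c) →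
      c = lift (1 : G ⊗ G ⟶ G) 1 ≫ c) :
    Subsingleton (BigSite.H Scheme.fppfPrecoverage X
      (CGrpSh2.dualSh Scheme.fppfPrecoverage (CGrpSh.pts Scheme.fppfPrecoverage G)) 1) := by
  haveI := mono_evF (G := G)
  let E := ShortComplex.mk (evF G) (cokernel.π (evF G)) (cokernel.condition _)
  have hE : E.ShortExact := ShortComplex.ShortExact.mk' (ShortComplex.exact_cokernel _) inferInstance inferInstance
  refine GaExt23.subsingleton_H1_kernel (E := E) hE (Over.mkIdTerminal) (subsingleton_H_Fun G hPic) fun k => ?_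
  let db : cokernel (evF G) ⟶ Fun (G ⊗ G) := cokernel.desc _ (dlt G) evF_dlt
  have hdb : ∀ (V : Over X) (f : (Fun G).obj.obj (op V)),
      db.hom.app (op V) ((cokernel.π (evF G)).hom.app (op V) f) = (dlt G).hom.app (op V) f := fun V f => by
    rw [← ConcreteCategory.comp_apply, ← NatTrans.comp_app, ← ObjectProperty.FullSubcategory.comp_hom, cokernel.π_desc]
  let pX : Over X := Over.mk (𝟙 X)
  let j : G ⊗ G ⟶ W (G ⊗ G) pX := wl (Over.mkIdTerminal.from _) (𝟙 _)
  let c : W (G ⊗ G) pX ⟶ Red.Gm X := toPt (G ⊗ G) (db.hom.app (op pX) k)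
  haveI : Sheaf.IsLocallySurjective (cokernel.π (evF G)) :=
    (Sheaf.isLocallySurjective_iff_epi' _ _).2 inferInstance
  have hcov := Presheaf.imageSieve_mem (QuotSh.J Scheme.fppfPrecoverage X) (cokernel.π (evF G)).hom (U := op pX) k
  -- on the axes the defect is constant
  have hax : ∀ (T : Over X) (x : T ⟶ G ⊗ G), (x ≫ fst G G = 1 ∨ x ≫ snd G G = 1) →
      x ≫ j ≫ c = lift (1 : T ⟶ G) 1 ≫ j ≫ c := fun T x hx => by
    have hSep := ((isSheaf_iff_isSheaf_of_type _ _).1
      ((Presheaf.isSheaf_iff_isSheaf_forget _ (CGrpSh2.Gm Scheme.fppfPrecoverage X).obj (forget AddCommGrpCat.{u + 1})).1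
        (CGrpSh2.Gm Scheme.fppfPrecoverage X).property)) _
      (GrothendieckTopology.pullback_stable _ (Over.mkIdTerminal.from T) hcov)
    refine gm_up_injective (hSep.isSeparatedFor.ext fun V g hg => ?_)
    obtain ⟨f, hf⟩ := hg
    refine ULift.ext _ _ (congrArg Additive.ofMul ?_)
    show g ≫ x ≫ j ≫ c = g ≫ lift 1 1 ≫ j ≫ c
    let r : V ⟶ pX := g ≫ Over.mkIdTerminal.from T
    have hr : toPt (G ⊗ G) ((dlt G).hom.app (op V) f) = Wf r ≫ c := by
      rw [← hdb, hf, NatTrans.naturality_apply db.hom]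
      rfl
    have hj : ∀ y : T ⟶ G ⊗ G, g ≫ y ≫ j ≫ c = wl (𝟙 V) (g ≫ y) ≫ toPt (G ⊗ G) ((dlt G).hom.app (op V) f) := fun y => by
      rw [hr, ← Category.assoc, ← Category.assoc, ← Category.assoc, Wf_eq, comp_wl, comp_wl,
        ← Category.assoc (wl (𝟙 V) (g ≫ y)) (π (G ⊗ G)) r, wl_π, wl_τ, Category.id_comp, Category.comp_id]
      exact congrArg (fun s => wl s (g ≫ y) ≫ c) (Over.mkIdTerminal.hom_ext _ _)
    rw [hj, hj, dlt_one f, dlt_one f]
    · exact Or.inl (by rw [Category.assoc, lift_fst, MonObj.comp_one])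
    · exact hx.imp (fun h => by rw [Category.assoc, h, MonObj.comp_one]) (fun h => by rw [Category.assoc, h, MonObj.comp_one])
  have hconst := hunit (j ≫ c) hax
  -- the defect of additivity of `k` is constant
  have hc : c = τ (G ⊗ G) ≫ (j ≫ c) := by
    rw [← Category.assoc, comp_wl, Category.comp_id,
      show τ (G ⊗ G) ≫ Over.mkIdTerminal.from (G ⊗ G) = π (G ⊗ G) from Over.mkIdTerminal.hom_ext _ _, wl_eta, Category.id_comp]
  let f₀ : (Fun G).obj.obj (op pX) :=
    - ULift.up (Additive.ofMul (lift (1 : W G pX ⟶ G) 1 ≫ (j ≫ c)))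
  have hf₀ : (dlt G).hom.app (op pX) f₀ = db.hom.app (op pX) k := by
    have key : ∀ h : G ⊗ G ⟶ G, (funMap h).hom.app (op pX) f₀ = - db.hom.app (op pX) k := fun h => by
      refine (map_neg ((funMap h).hom.app (op pX)).hom _).trans (congrArg (- ·) (ULift.ext _ _ (Additive.toMul.injective ?_)))
      show wl (π (G ⊗ G)) (τ (G ⊗ G) ≫ h) ≫ lift 1 1 ≫ (j ≫ c) = c
      rw [← Category.assoc, comp_lift, MonObj.comp_one]
      conv_rhs => rw [hc, hconst, ← Category.assoc, comp_lift, MonObj.comp_one]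
    rw [dlt_app, key, key, key]
    abel
  let k' := k - (cokernel.π (evF G)).hom.app (op pX) f₀
  suffices hk : k' = 0 from ⟨f₀, (sub_eq_zero.1 hk).symm⟩
  have hdk : db.hom.app (op pX) k' = 0 := by rw [map_sub, hdb, hf₀, sub_self]
  have hS := (isSheaf_iff_isSheaf_of_type _ _).1
    ((Presheaf.isSheaf_iff_isSheaf_forget _ (cokernel (evF G)).obj (forget AddCommGrpCat.{u + 1})).1 (cokernel (evF G)).property)
  refine (hS _ (Presheaf.imageSieve_mem _ (cokernel.π (evF G)).hom (U := op pX) k')).isSeparatedFor.ext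
    fun V g hg => ?_
  obtain ⟨f, hf⟩ := hg
  change (cokernel (evF G)).obj.map g.op k' = (cokernel (evF G)).obj.map g.op 0
  rw [map_zero, ← hf]
  have hd : (dlt G).hom.app (op V) f = 0 := by
    rw [← hdb, hf, NatTrans.naturality_apply db.hom, hdk, map_zero]
  obtain ⟨φ, rfl⟩ := exists_of_dlt_eq_zero f hd
  exact ConcreteCategory.congr_hom (congrArg (fun t : _ ⟶ cokernel (evF G) => t.hom.app (op V)) (cokernel.condition (evF G))) φ

section Field

open BddFin29

variable {K : Type u} [Field K]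

local notation "base" => Spec (CommRingCat.of K)

/-- The point of a unit of an algebra. -/
def pt (R : Type u) [CommRing R] [Algebra K R] (a : Rˣ) : sp K R ⟶ Red.Gm base :=
  GmPts.ptOfUnit (Units.map (Scheme.ΓSpecIso (CommRingCat.of R)).inv.hom.toMonoidHom a)

/-- The unit of a point. -/
def val (R : Type u) [CommRing R] [Algebra K R] (x : sp K R ⟶ Red.Gm base) : Rˣ :=
  Units.map (Scheme.ΓSpecIso (CommRingCat.of R)).hom.hom.toMonoidHom (GmPts.unitOfPt x)

variable {R : Type u} [CommRing R] [Algebra K R]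

theorem pt_val (x : sp K R ⟶ Red.Gm base) : pt R (val R x) = x := by
  apply GmPts.gmFn_injective
  show Red.gmFn (pt R (val R x)) = Red.gmFn x
  rw [pt, GmPts.gmFn_ptOfUnit]
  exact ConcreteCategory.congr_hom (Scheme.ΓSpecIso (CommRingCat.of R)).hom_inv_id (Red.gmFn x)

theorem pt_one : pt R (1 : Rˣ) = (1 : sp K R ⟶ Red.Gm base) := by
  apply GmPts.gmFn_injective
  show Red.gmFn (pt R (1 : Rˣ)) = Red.gmFn (1 : sp K R ⟶ Red.Gm base)
  rw [pt, GmPts.gmFn_ptOfUnit, GmPts.gmFn_one, map_one, Units.val_one]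

theorem val_injective : Function.Injective (val (K := K) R) := fun x y h => by
  rw [← pt_val x, ← pt_val y, h]

theorem specMap_pt {S : Type u} [CommRing S] [Algebra K S] (φ : R →ₐ[K] S) (a : Rˣ)
    (g : sp K S ⟶ sp K R) (hg : g.left = Spec.map (CommRingCat.ofHom φ.toRingHom)) :
    g ≫ pt R a = pt S (Units.map φ.toRingHom.toMonoidHom a) := by
  apply GmPts.gmFn_injective
  show Red.gmFn (g ≫ pt R a) = Red.gmFn (pt S _)
  rw [GmPts.gmFn_comp, pt, pt, GmPts.gmFn_ptOfUnit, GmPts.gmFn_ptOfUnit, hg]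
  exact (ConcreteCategory.congr_hom (Scheme.ΓSpecIso_inv_naturality (CommRingCat.ofHom φ.toRingHom)) (a : R)).symm

theorem specMap_val {S : Type u} [CommRing S] [Algebra K S] (φ : R →ₐ[K] S) (x : sp K R ⟶ Red.Gm base)
    (g : sp K S ⟶ sp K R) (hg : g.left = Spec.map (CommRingCat.ofHom φ.toRingHom)) :
    val S (g ≫ x) = Units.map φ.toRingHom.toMonoidHom (val R x) := by
  refine Units.ext ?_
  show (Scheme.ΓSpecIso (CommRingCat.of S)).hom (Red.gmFn (g ≫ x)) = _
  rw [GmPts.gmFn_comp, hg]
  exact ConcreteCategory.congr_hom (Scheme.ΓSpecIso_naturality (CommRingCat.ofHom φ.toRingHom)) (Red.gmFn x)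

/-- An invertible function on `Gm × Gm` constant on both axes is constant. -/
theorem eq_const_gm (c : Red.Gm base ⊗ Red.Gm base ⟶ Red.Gm base)
    (hc : ∀ (T : Over base) (x : T ⟶ Red.Gm base ⊗ Red.Gm base),
      (x ≫ fst _ _ = 1 ∨ x ≫ snd _ _ = 1) → x ≫ c = lift (1 : T ⟶ Red.Gm base) 1 ≫ c) :
    c = lift (1 : Red.Gm base ⊗ Red.Gm base ⟶ Red.Gm base) 1 ≫ c := by
  let F : ∀ (R : Type u) [CommRing R] [Algebra K R], Rˣ → Rˣ → Rˣ := fun R _ _ a b =>
    val R (lift (pt R a) (pt R b) ≫ c) * (val R (lift (1 : sp K R ⟶ Red.Gm base) 1 ≫ c))⁻¹ * (a * b)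
  have key : ∀ (R : Type u) [CommRing R] [Algebra K R] (a b : Rˣ), F R a b = a * b := fun R _ _ a b => by
    have h := GmLaw19.op_eq F (fun R S _ _ _ _ φ a b => by
      let g : sp K S ⟶ sp K R := Over.homMk (Spec.map (CommRingCat.ofHom φ.toRingHom)) (by
        show Spec.map _ ≫ Spec.map _ = Spec.map _
        rw [← Spec.map_comp]
        exact congrArg Spec.map (CommRingCat.hom_ext φ.comp_algebraMap))
      simp only [F, map_mul, map_inv, ← specMap_val φ _ g rfl, ← Category.assoc, comp_lift,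
        specMap_pt φ _ g rfl, MonObj.comp_one]) (1 : Kˣ)
      (fun R _ _ a => by
        simp only [F, map_one, pt_one, _root_.mul_one]
        rw [hc _ (lift (pt R a) 1) (Or.inr (lift_snd _ _)), mul_inv_cancel, _root_.one_mul])
      (fun R _ _ b => by
        simp only [F, map_one, pt_one, _root_.one_mul]
        rw [hc _ (lift 1 (pt R b)) (Or.inl (lift_fst _ _)), mul_inv_cancel, _root_.one_mul]) R a b
    rwa [inv_one, map_one, _root_.mul_one] at h
  have hR : ∀ (R : Type u) [CommRing R] [Algebra K R] (x y : sp K R ⟶ Red.Gm base),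
      lift x y ≫ c = lift 1 1 ≫ c := fun R _ _ x y => by
    have h := key R (val R x) (val R y)
    simp only [F, pt_val] at h
    exact val_injective (mul_inv_eq_one.1 (mul_eq_right.1 h))
  let T : Over base := Red.Gm base ⊗ Red.Gm base
  haveI : IsAffineHom (Red.Gm base).hom :=
    MorphismProperty.pullback_snd _ _ (inferInstanceAs (IsAffineHom (Spec.map _)))
  haveI : IsAffineHom (pullback.fst (Red.Gm base).hom (Red.Gm base).hom) :=
    MorphismProperty.pullback_fst _ _ inferInstance
  haveI : IsAffine (Red.Gm base).left := isAffine_of_isAffineHom (Red.Gm base).hom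
  haveI : IsAffine T.left := isAffine_of_isAffineHom (pullback.fst (Red.Gm base).hom (Red.Gm base).hom)
  letI : Algebra K Γ(T.left, ⊤) := (str T).hom.toAlgebra
  let e : sp K Γ(T.left, ⊤) ≅ T := Over.isoMk T.left.isoSpec.symm (by
    rw [Iso.symm_hom, Iso.inv_comp_eq]
    show T.hom = T.left.isoSpec.hom ≫ Spec.map (CommRingCat.ofHom (str T).hom)
    rw [Scheme.isoSpec_hom]
    apply ext_of_isAffine
    simp [str, Scheme.toSpecΓ_appTop])
  rw [← cancel_epi e.hom, ← Category.assoc, comp_lift, MonObj.comp_one]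
  have := hR _ (e.hom ≫ fst _ _) (e.hom ≫ snd _ _)
  rwa [← comp_lift, lift_fst_snd, Category.comp_id] at this

/-- Invertible modules on the multiplicative group over a field are trivial. -/
theorem pic_gm (L : (Red.Gm base).left.Modules) (hL : PicF.IsInvertible L) :
    Nonempty (L ≅ Coh.structureModule (Red.Gm base).left) := by
  obtain ⟨f, hf, -⟩ := exists_coord_gm (K := K)
  haveI := hf
  let e : Spec (CommRingCat.of (Lz K)) ≅ (Red.Gm base).left := (Over.forget _).mapIso (asIso f)
  obtain ⟨P, hP, ⟨i⟩⟩ := PicAff14.exists_invertible_tilde (Twist.isInvertible_pullback e.hom hL)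
  haveI := hP
  haveI : IsPrincipalIdealRing (Lz K) := ⟨fun J => by
    obtain ⟨g, hg⟩ := (IsPrincipalIdealRing.principal (J.under (Polynomial K))).principal
    refine ⟨⟨algebraMap _ _ g, ?_⟩⟩
    rw [← IsLocalization.map_under (Submonoid.powers (Polynomial.X : Polynomial K)) (Lz K) J, hg,
      Ideal.submodule_span_eq, Ideal.map_span, Set.image_singleton]⟩
  haveI : IsGCDMonoid (Lz K) := inferInstance
  haveI : Module.Free (CommRingCat.of (Lz K)) P := inferInstanceAs (Module.Free (Lz K) P)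
  obtain ⟨c⟩ := (Module.Invertible.free_iff_linearEquiv (R := CommRingCat.of (Lz K)) (M := P)).1 inferInstance
  let t : (Scheme.Modules.pullback e.hom).obj L ≅ Coh.structureModule _ :=
    i ≪≫ PicAff14.tildeIsoOfEquiv (M := P) (N := ModuleCat.of _ (CommRingCat.of (Lz K))) c ≪≫ tildeSelf
  exact ⟨((Scheme.Modules.pullbackComp e.inv e.hom).app L ≪≫ (Scheme.Modules.pullbackCongr e.inv_hom_id).app L ≪≫
    (Scheme.Modules.pullbackId _).app L).symm ≪≫ (Scheme.Modules.pullback e.inv).mapIso t ≪≫ Twist.pullbackUnitIso e.inv⟩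

/-- `H¹` of the dual of the multiplicative group of a field vanishes. -/
theorem subsingleton_H_dualSh_gm :
    Subsingleton (BigSite.H Scheme.fppfPrecoverage base
      (CGrpSh2.dualSh Scheme.fppfPrecoverage (CGrpSh2.Gm Scheme.fppfPrecoverage base)) 1) :=
  subsingleton_H_dualSh (G := Red.Gm base) pic_gm eq_const_gm

end Field

end Groth.Agent.DualGm23
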